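import Groth.Agent.HilbProjLib.Quot
import Groth.Agent.HilbRepLib.Affine

/-!
# The Hilbert scheme of points of a finite morphism is closed in a Grassmannian
-/

set_option autoImplicit false
set_option backward.isDefEq.respectTransparency false
set_option linter.style.haveILetI false

universe u

open CategoryTheory CategoryTheory.Limits AlgebraicGeometry TopologicalSpace Opposite Grass
open Groth.Agent.PullbackMod Groth.Agent.FlagLib Groth.Agent.GrassShLib Groth.Agent.GrassRepLib Groth.Agent.DegDevLib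

noncomputable section

namespace Groth.Agent.HilbProjLib

variable {X S : Scheme.{u}} (f : X ⟶ S) {d : ℕ} (i : Idx (ringE f) d)

/-- A section of the algebra as a function. -/
abbrev toX {U : S.Opens} (v : Γ(ringE f, U)) : Γ(X, f ⁻¹ᵁ U) := v

/-- A function as a section of the algebra. -/
abbrev ofX {U : S.Opens} (v : Γ(X, f ⁻¹ᵁ U)) : Γ(ringE f, U) := v

variable [Coh.IsQCoh (ringE f)]

/-- Coordinates on a chart. -/
def kap (v : Γ(ringE f, i.U)) : Fin d → Γ(i.Z.left, ⊤) := coordsV i.univD i.isFrame_univF i.le_preimage v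

/-- Coordinates of the product of two generators. -/
def mulK (l j : Fin i.n) : Fin d → Γ(i.Z.left, ⊤) := kap f i (ofX f (toX f (i.σ l) * toX f (i.σ j)))

/-- The equations expressing stability under multiplication. -/
def eqn (p : Fin i.n × Fin i.n × Fin d) : Γ(i.Z.left, ⊤) :=
  mulK f i p.1 p.2.1 p.2.2 - ∑ b, i.coord p.2.1 b * mulK f i p.1 (i.I b) p.2.2

theorem kap_σ (j : Fin i.n) : kap f i (i.σ j) = i.coord j :=
  coordsV_eq i.univD i.isFrame_univF i.le_preimage (i.vecS_univ j).symm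

variable {f}
variable [IsFinite f]

/-- The quotient of a family at a chart satisfies the equations. -/
theorem eqn_zero {T : Over S} (Z : HilbD.Obj f d T) (a : T ⟶ i.Z)
    (h : i.univD.cls.bc a.left (Over.w a) = (hilbQ Z).cls) (p : Fin i.n × Fin i.n × Fin d) :
    a.left.appTop (eqn f i p) = 0 := by
  classical
  obtain ⟨l, j, m⟩ := p
  have e := i.le_preimage_comp a
  let D := i.univD.bc a.left (Over.w a)
  haveI := D.epi
  haveI := (hilbQ Z).epi
  rw [QData.bc_cls] at h
  obtain ⟨ε, hε⟩ := exists_iso_of_kerS_eq D.s (hilbQ Z).s (congrArg Subtype.val h)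
  let F : Fin d → Γ((hilbQ Z).L, ⊤) := fun b => vecS (hilbQ Z) e (i.σ (i.I b))
  have hF' : ∀ b, ε.hom.app ⊤ (i.frameBC a b) = F b := fun b => by
    show _ = vecS (hilbQ Z) e (i.σ (i.I b))
    rw [← vecS_iso ε hε e]
    refine congrArg _ ?_
    rw [vecS_bc_top i.univD a.left (Over.w a) i.le_preimage e, i.vecS_univ_self]
    rfl
  have hF : IsFrame ⊤ F := (isFrame_iff_spanAt (hilbQ Z).rank _).2 fun x hx => by
    have h1 := ((isFrame_iff_spanAt D.rank _).1 (i.isFrame_frameBC a) x hx).map ε.hom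
    simp only [hF'] at h1
    exact h1
  have hk : ∀ v, coordsV (hilbQ Z) hF e v = fun b => a.left.appTop (kap f i v b) := fun v => by
    have h1 := coordsV_bc i.univD i.isFrame_univF i.le_preimage a.left (Over.w a) (i.isFrame_frameBC a)
      (fun b => rfl) le_rfl e v
    rw [show (ringE f).presheaf.map (homOfLE (le_refl i.U)).op v = v from Groth.Agent.CohBase.restr_self _ _ _] at h1
    exact (coordsV_map D (i.isFrame_frameBC a) e (hilbQ Z) hF ε.hom hF' e v (vecS_iso ε hε e v)).trans h1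
  let r : Γ(X, f ⁻¹ᵁ i.U) →+* Γ(Z.1.subscheme, zProj Z ⁻¹ᵁ ⊤) := zFun Z e
  let ρ : Γ(T.left, ⊤) →+* Γ(Z.1.subscheme, zProj Z ⁻¹ᵁ ⊤) := ((zProj Z).app ⊤).hom
  have hr : ∀ v : Γ(ringE f, i.U), r (toX f v) = ∑ b, ρ (a.left.appTop (kap f i v b)) * r (toX f (i.σ (i.I b))) := by
    intro v
    have h1 := sum_coordsV (hilbQ Z) hF e v
    rw [hk] at h1
    simp only [F, vecS_hilbQ Z i.hU e] at h1
    exact h1.symm
  have hkey : ∑ b, a.left.appTop (mulK f i l j b) • F b =
      ∑ b, (∑ c, a.left.appTop (i.coord j c) * a.left.appTop (mulK f i l (i.I c) b)) • F b := by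
    simp only [F, vecS_hilbQ Z i.hU e]
    show ∑ b, ρ (a.left.appTop (mulK f i l j b)) * r (toX f (i.σ (i.I b))) =
      ∑ b, ρ (∑ c, a.left.appTop (i.coord j c) * a.left.appTop (mulK f i l (i.I c) b)) * r (toX f (i.σ (i.I b)))
    refine ((hr _).symm.trans (map_mul r _ _)).trans ?_
    rw [hr (i.σ j), Finset.mul_sum]
    simp only [kap_σ, map_sum, map_mul, Finset.sum_mul]
    rw [Finset.sum_comm (γ := Fin d)]
    refine Finset.sum_congr rfl fun c _ => ?_
    rw [← mul_assoc, mul_comm (r (toX f (i.σ l))), mul_assoc, ← map_mul r]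
    refine (congrArg (ρ _ * ·) (hr (ofX f (toX f (i.σ l) * toX f (i.σ (i.I c)))))).trans ?_
    rw [Finset.mul_sum]
    exact Finset.sum_congr rfl fun b _ => (mul_assoc _ _ _).symm
  have h2 := congrFun (hF.bijective.1 (a₁ := fun b => a.left.appTop (mulK f i l j b))
    (a₂ := fun b => ∑ c, a.left.appTop (i.coord j c) * a.left.appTop (mulK f i l (i.I c) b))
    (by simpa only [Fintype.linearCombination_apply] using hkey)) m
  simp only at h2
  show a.left.appTop (mulK f i l j m - ∑ b, i.coord j b * mulK f i l (i.I b) m) = 0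
  rw [map_sub, map_sum, h2]
  simp only [map_mul, sub_self]

/-- The ideal of the equations in the ring of the chart. -/
def eqIdeal : Ideal i.A := Ideal.span (Set.range fun p => (Scheme.ΓSpecIso (.of i.A)).hom (eqn f i p))

/-- The quotient by the equations. -/
def qmk : CommRingCat.of i.A ⟶ CommRingCat.of (i.A ⧸ eqIdeal i) :=
  CommRingCat.ofHom (R := i.A) (S := i.A ⧸ eqIdeal i) (Ideal.Quotient.mk (eqIdeal i))

theorem qmk_apply (x : i.A) : qmk i x = Ideal.Quotient.mk (eqIdeal i) x := rfl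

/-- The closed part of a chart. -/
def Wc : Over S := Over.mk (Spec.map (qmk i) ≫ i.Z.hom)

/-- Its inclusion. -/
def jW : Wc i ⟶ i.Z := Over.homMk (Spec.map (qmk i)) rfl

instance : IsClosedImmersion (jW i).left :=
  IsClosedImmersion.spec_of_surjective (qmk i) fun x => by
    obtain ⟨y, rfl⟩ := Ideal.Quotient.mk_surjective x
    exact ⟨y, rfl⟩

theorem appTop_eqn_jW (p : Fin i.n × Fin i.n × Fin d) : (jW i).left.appTop (eqn f i p) = 0 := by
  have h : (jW i).left.appTop ((Scheme.ΓSpecIso (.of i.A)).inv ((Scheme.ΓSpecIso (.of i.A)).hom (eqn f i p))) = 0 := by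
    show (Spec.map (qmk i)).appTop _ = 0
    rw [← ConcreteCategory.comp_apply, ← Scheme.ΓSpecIso_inv_naturality, ConcreteCategory.comp_apply,
      show (qmk i) ((Scheme.ΓSpecIso (.of i.A)).hom (eqn f i p)) = 0 from
        Ideal.Quotient.eq_zero_iff_mem.2 (Ideal.subset_span ⟨p, rfl⟩), map_zero]
  rw [← ConcreteCategory.comp_apply (Scheme.ΓSpecIso (.of i.A)).hom, Iso.hom_inv_id] at h
  exact h

theorem exists_factor_jW {T : Over S} (a : T ⟶ i.Z) (h : ∀ p, a.left.appTop (eqn f i p) = 0) :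
    ∃ k : T ⟶ Wc i, k ≫ jW i = a := by
  let ψ : CommRingCat.of i.A ⟶ Γ(T.left, ⊤) := (Scheme.ΓSpecIso (.of i.A)).inv ≫ a.left.appTop
  have hψ : eqIdeal i ≤ RingHom.ker ψ.hom := by
    rw [eqIdeal, Ideal.span_le]
    rintro _ ⟨p, rfl⟩
    show a.left.appTop ((Scheme.ΓSpecIso (.of i.A)).inv ((Scheme.ΓSpecIso (.of i.A)).hom (eqn f i p))) = 0
    rw [← ConcreteCategory.comp_apply (Scheme.ΓSpecIso (.of i.A)).hom, Iso.hom_inv_id]
    exact h p
  let ψ' : CommRingCat.of (i.A ⧸ eqIdeal i) ⟶ Γ(T.left, ⊤) :=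
    CommRingCat.ofHom (R := i.A ⧸ eqIdeal i) (Ideal.Quotient.lift (eqIdeal i) ψ.hom fun x hx => hψ hx)
  have h1 : qmk i ≫ ψ' = ψ :=
    CommRingCat.hom_ext (RingHom.ext fun x => rfl)
  have ha : (T.left.toSpecΓ ≫ Spec.map ψ') ≫ (jW i).left = a.left := by
    show (T.left.toSpecΓ ≫ Spec.map ψ') ≫ Spec.map _ = _
    rw [Category.assoc, ← Spec.map_comp, h1]
    simp only [ψ, Spec.map_comp]
    rw [← Category.assoc, ← Scheme.toSpecΓ_naturality, Category.assoc]
    exact (congrArg (a.left ≫ ·) (by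
      show (Spec (CommRingCat.of i.A)).toSpecΓ ≫ _ = 𝟙 (Spec (CommRingCat.of i.A))
      rw [← SpecMap_ΓSpecIso_hom, ← Spec.map_comp, Iso.inv_hom_id, Spec.map_id])).trans (Category.comp_id _)
  refine ⟨Over.homMk (T.left.toSpecΓ ≫ Spec.map ψ') ?_, Over.OverMorphism.ext ha⟩
  show (T.left.toSpecΓ ≫ Spec.map ψ') ≫ (jW i).left ≫ i.Z.hom = T.hom
  exact (Category.assoc _ _ _).symm.trans ((congrArg (· ≫ i.Z.hom) ha).trans (Over.w a))

omit [IsFinite f] [Coh.IsQCoh (ringE f)] in
theorem deg_comp_iso_right {X' Y Y' : Scheme.{u}} {g : X' ⟶ Y} (e : Y ⟶ Y') [IsIso e]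
    (h : Mor2.IsFinLocFreeOfDeg d g) : Mor2.IsFinLocFreeOfDeg d (g ≫ e) := by
  obtain ⟨⟨h1, h2, h3⟩, h4⟩ := h
  haveI := h1
  haveI := h2
  haveI := h3
  refine ⟨⟨inferInstance, inferInstance, inferInstance⟩, fun y => ?_⟩
  obtain ⟨y, rfl⟩ := e.surjective y
  rw [← Scheme.Hom.finrank_of_isPullback (𝟙 X') g (g ≫ e) e (IsPullback.of_horiz_isIso ⟨by simp⟩) y]
  exact h4 y

omit [IsFinite f] [Coh.IsQCoh (ringE f)] in
/-- A quotient by the kernel of a surjection onto a free module has constant degree. -/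
theorem deg_kerQuot {B C : CommRingCat.{u}} (α₀ : B ⟶ C) (K : Ideal C) (φ : C →+ (Fin d → B))
    (hsmul : ∀ (b : B) x, φ (α₀ b * x) = b • φ x) (hK : ∀ x, x ∈ K ↔ φ x = 0) (hsurj : Function.Surjective φ) :
    Mor2.IsFinLocFreeOfDeg d (Spec.map (α₀ ≫ CommRingCat.ofHom (Ideal.Quotient.mk K))) := by
  letI : Algebra B C := α₀.hom.toAlgebra
  show Mor2.IsFinLocFreeOfDeg d (Spec.map (CommRingCat.ofHom (algebraMap B (C ⧸ K))))
  rw [HilbRepLib.deg_spec]
  let ψ : C →ₗ[B] (Fin d → B) :=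
    { toFun := φ, map_add' := map_add φ, map_smul' := fun b x => (congrArg φ (Algebra.smul_def b x)).trans (hsmul b x) }
  let g : (C ⧸ K) ≃ₗ[B] (Fin d → B) :=
    (Submodule.Quotient.restrictScalarsEquiv B K).symm ≪≫ₗ
      Submodule.quotEquivOfEq _ _ (show K.restrictScalars B = LinearMap.ker ψ from Submodule.ext hK) ≪≫ₗ
        ψ.quotKerEquivOfSurjective hsurj
  refine ⟨Module.Finite.equiv g.symm, Module.Projective.of_equiv g.symm, fun p => ?_⟩
  haveI : Nontrivial B := PrimeSpectrum.nonempty_iff_nontrivial.1 ⟨p⟩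
  rw [Module.rankAtStalk_eq_of_equiv g, Module.rankAtStalk_eq_finrank_of_free, Pi.natCast_apply,
    Module.finrank_fin_fun]
  rfl

set_option maxHeartbeats 1600000 in
/-- The family on the closed part of a chart. -/
theorem exists_obj_Wc : ∃ Z : HilbD.Obj f d (Wc i),
    i.univD.cls.bc (jW i).left (Over.w (jW i)) = (hilbQ Z).cls := by
  classical
  let T := Wc i
  let A' : CommRingCat.{u} := CommRingCat.of (i.A ⧸ eqIdeal i)
  let j := jW i
  have e : ⊤ ≤ T.hom ⁻¹ᵁ i.U := i.le_preimage_comp j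
  haveI : IsAffine T.left := inferInstanceAs (IsAffine (Spec _))
  haveI : IsAffine (PicF.XT f T) := isAffine_of_isAffineHom (PicF.XTproj f T)
  let O : (PicF.XT f T : Scheme.{u}).Opens := PicF.XTproj f T ⁻¹ᵁ ⊤
  obtain ⟨-, hpo⟩ := PullbackMod.isPushout_appLE (IsPullback.of_hasPullback f T.hom) i.hU (i.hU.preimage f)
    (isAffineOpen_top T.left) le_rfl e
  let C := Γ(pullback f T.hom, pullback.fst f T.hom ⁻¹ᵁ (f ⁻¹ᵁ i.U) ⊓ pullback.snd f T.hom ⁻¹ᵁ ⊤)
  letI : Algebra Γ(S, i.U) Γ(X, f ⁻¹ᵁ i.U) := (f.appLE i.U (f ⁻¹ᵁ i.U) le_rfl).hom.toAlgebra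
  letI : Algebra Γ(S, i.U) Γ(T.left, ⊤) := (T.hom.appLE i.U ⊤ e).hom.toAlgebra
  let P' := pullback.fst f T.hom ⁻¹ᵁ (f ⁻¹ᵁ i.U) ⊓ pullback.snd f T.hom ⁻¹ᵁ ⊤
  letI : Algebra Γ(X, f ⁻¹ᵁ i.U) Γ(pullback f T.hom, P') :=
    ((pullback.fst f T.hom).appLE (f ⁻¹ᵁ i.U) _ inf_le_left).hom.toAlgebra
  letI : Algebra Γ(T.left, ⊤) Γ(pullback f T.hom, P') :=
    ((pullback.snd f T.hom).appLE ⊤ _ inf_le_right).hom.toAlgebra
  letI : Algebra Γ(S, i.U) Γ(pullback f T.hom, P') :=
    (((pullback.fst f T.hom).appLE (f ⁻¹ᵁ i.U) P' inf_le_left).hom.comp (f.appLE i.U _ le_rfl).hom).toAlgebra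
  haveI : IsScalarTower Γ(S, i.U) Γ(X, f ⁻¹ᵁ i.U) Γ(pullback f T.hom, P') := .of_algebraMap_eq fun _ => rfl
  haveI : IsScalarTower Γ(S, i.U) Γ(T.left, ⊤) Γ(pullback f T.hom, P') :=
    .of_algebraMap_eq' (by
      show ((f.appLE i.U _ le_rfl) ≫ (pullback.fst f T.hom).appLE _ P' inf_le_left).hom =
        ((T.hom.appLE i.U ⊤ e) ≫ (pullback.snd f T.hom).appLE ⊤ P' inf_le_right).hom
      simp only [Scheme.Hom.appLE_comp_appLE, pullback.condition])
  let ι₀ := IsScalarTower.toAlgHom Γ(S, i.U) Γ(X, f ⁻¹ᵁ i.U) Γ(pullback f T.hom, P')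
  -- coordinates of functions over the closed part
  let κ₀ : Γ(X, f ⁻¹ᵁ i.U) →ₗ[Γ(S, i.U)] (Fin d → Γ(T.left, ⊤)) :=
    { toFun := fun v b => j.left.appTop (kap f i (ofX f v) b)
      map_add' := fun v w => funext fun b => by
        show j.left.appTop (kap f i (ofX f v + ofX f w) b) = _
        rw [show kap f i (ofX f v + ofX f w) = kap f i (ofX f v) + kap f i (ofX f w) from coordsV_add _ _ _ _ _,
          Pi.add_apply, map_add]
        rfl
      map_smul' := fun c v => funext fun b => by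
        have h1 : kap f i (c • ofX f v) = i.Z.hom.appLE i.U ⊤ i.le_preimage c • kap f i (ofX f v) :=
          coordsV_smul _ _ _ _ _
        have h2 : ofX f (c • v) = c • ofX f v := by
          show f.appLE i.U (f ⁻¹ᵁ i.U) le_rfl c * v = f.app i.U c * v
          rw [← Scheme.Hom.app_eq_appLE]
        show j.left.appTop (kap f i (ofX f (c • v)) b) = T.hom.appLE i.U ⊤ e c * _
        rw [h2, h1, Pi.smul_apply, smul_eq_mul, map_mul]
        congr 1 }
  let φ : Γ(pullback f T.hom, P') →ₗ[Γ(T.left, ⊤)] (Fin d → Γ(T.left, ⊤)) := hpo.out.lift κ₀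
  have hφ : ∀ v, φ (ι₀ v) = κ₀ v := fun v => hpo.out.lift_eq κ₀ v
  let c : Fin i.n → Fin d → Γ(T.left, ⊤) := fun m b => j.left.appTop (i.coord m b)
  have hκσ : ∀ m, κ₀ (toX f (i.σ m)) = c m := fun m => funext fun b => by
    show j.left.appTop (kap f i (i.σ m) b) = _
    rw [kap_σ]
  have hgen : ∀ v : Γ(ringE f, i.U), toX f v ∈ Submodule.span Γ(S, i.U) (Set.range fun m => toX f (i.σ m)) := by
    intro v
    have hv : v ∈ Submodule.span Γ(S, i.U) (Set.range i.σ) := by rw [i.hσ]; trivial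
    induction hv using Submodule.span_induction with
    | mem w hw => obtain ⟨m, rfl⟩ := hw; exact Submodule.subset_span ⟨m, rfl⟩
    | zero => exact Submodule.zero_mem _
    | add w w' _ _ hw hw' => exact Submodule.add_mem _ hw hw'
    | smul a w _ hw =>
      have : toX f (a • w) = a • toX f w := by
        show f.app i.U a * (show Γ(X, f ⁻¹ᵁ i.U) from w) =
          f.appLE i.U (f ⁻¹ᵁ i.U) le_rfl a * (show Γ(X, f ⁻¹ᵁ i.U) from w)
        rw [← Scheme.Hom.app_eq_appLE]
      rw [this]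
      exact Submodule.smul_mem _ _ hw
  let M : Fin i.n → (Fin d → Γ(T.left, ⊤)) →ₗ[Γ(T.left, ⊤)] (Fin d → Γ(T.left, ⊤)) := fun l =>
    Fintype.linearCombination Γ(T.left, ⊤) fun b => κ₀ (toX f (i.σ l) * toX f (i.σ (i.I b)))
  have hM : ∀ l v, φ (ι₀ (toX f (i.σ l)) * ι₀ v) = M l (κ₀ v) := by
    intro l v
    have hv : v ∈ Submodule.span Γ(S, i.U) (Set.range fun m => toX f (i.σ m)) := hgen (ofX f v)
    induction hv using Submodule.span_induction with
    | mem w hw =>
      obtain ⟨m, rfl⟩ := hw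
      rw [show ι₀ (toX f (i.σ l)) * ι₀ (toX f (i.σ m)) = ι₀ (toX f (i.σ l) * toX f (i.σ m)) from (map_mul _ _ _).symm,
        hφ, hκσ, Fintype.linearCombination_apply]
      funext b
      have h0 := appTop_eqn_jW i (l, m, b)
      rw [eqn, map_sub, map_sum, sub_eq_zero] at h0
      refine h0.trans ?_
      rw [Finset.sum_apply]
      refine Finset.sum_congr rfl fun a _ => ?_
      rw [map_mul]
      rfl
    | zero => rw [map_zero, mul_zero, map_zero, map_zero, map_zero]
    | add w w' _ _ hw hw' => rw [map_add, mul_add, map_add, hw, hw', map_add, map_add]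
    | smul a w _ hw =>
      rw [map_smul, map_smul, mul_smul_comm, ← algebraMap_smul Γ(T.left, ⊤) a, map_smul, hw,
        ← algebraMap_smul Γ(T.left, ⊤) a, map_smul]
  have hM' : ∀ l x, φ (ι₀ (toX f (i.σ l)) * x) = M l (φ x) := by
    intro l x
    induction x using hpo.out.inductionOn with
    | zero => rw [mul_zero, map_zero, map_zero]
    | tmul v =>
      show φ (ι₀ (toX f (i.σ l)) * ι₀ v) = M l (φ (ι₀ v))
      rw [show φ (ι₀ v) = κ₀ v from hφ v]
      exact hM l v
    | smul a x hx => rw [mul_smul_comm, map_smul, map_smul, hx, map_smul]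
    | add x y hx hy => rw [mul_add, map_add, map_add, hx, hy, map_add]
  let K : Ideal Γ(pullback f T.hom, P') :=
    { LinearMap.ker φ with
      smul_mem' := fun z x hx => by
        have hx' : φ x = 0 := hx
        show φ (z * x) = 0
        induction z using hpo.out.inductionOn with
        | zero => rw [zero_mul, map_zero]
        | tmul v =>
          show φ (ι₀ v * x) = 0
          have hv : v ∈ Submodule.span Γ(S, i.U) (Set.range fun m => toX f (i.σ m)) := hgen (ofX f v)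
          induction hv using Submodule.span_induction with
          | mem w hw =>
            obtain ⟨l, rfl⟩ := hw
            rw [hM', hx', map_zero]
          | zero => rw [map_zero, zero_mul, map_zero]
          | add w w' _ _ hw hw' => rw [map_add, add_mul, map_add, hw, hw', add_zero]
          | smul a w _ hw =>
            rw [map_smul, smul_mul_assoc, ← algebraMap_smul Γ(T.left, ⊤) a, map_smul, hw, smul_zero]
        | smul a z hz => rw [smul_mul_assoc, map_smul, hz, smul_zero]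
        | add z w hz hw => rw [add_mul, map_add, hz, hw, add_zero] }
  have hcI : ∀ b, φ (ι₀ (toX f (i.σ (i.I b)))) = Pi.single b 1 := fun b => by
    rw [hφ, hκσ]
    funext a
    show j.left.appTop (i.coord (i.I b) a) = _
    rw [i.coord_self, Pi.single_apply]
    split <;> simp
  have hφsurj : Function.Surjective φ := fun w => ⟨∑ b, w b • ι₀ (toX f (i.σ (i.I b))), by
    simp only [map_sum, map_smul, hcI]
    funext a
    simp [Pi.single_apply]⟩
  have hPO : pullback.fst f T.hom ⁻¹ᵁ (f ⁻¹ᵁ i.U) ⊓ pullback.snd f T.hom ⁻¹ᵁ ⊤ =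
      (⊤ : (pullback f T.hom).Opens) := inf_eq_left.2 le_top |>.trans (top_le_iff.1 (le_proj e))
  haveI : IsAffine (P' : Scheme.{u}) :=
    (show IsAffineOpen P' from (show P' = ⊤ from hPO) ▸ isAffineOpen_top (pullback f T.hom))
  let Q : CommRingCat.{u} := CommRingCat.of (Γ(pullback f T.hom, P') ⧸ K)
  let z : Spec Q ⟶ PicF.XT f T :=
    Spec.map (CommRingCat.ofHom (Ideal.Quotient.mk K)) ≫
      (show IsAffineOpen P' from (show P' = ⊤ from hPO) ▸ isAffineOpen_top (pullback f T.hom)).fromSpec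
  have hP' : IsAffineOpen P' := (show P' = ⊤ from hPO) ▸ isAffineOpen_top (pullback f T.hom)
  haveI : IsIso hP'.fromSpec := by
    haveI : Epi hP'.fromSpec.base := (TopCat.epi_iff_surjective _).2 fun y => by
      have : y ∈ Set.range hP'.fromSpec := by
        rw [hP'.range_fromSpec]
        show y ∈ P'
        rw [show P' = ⊤ from hPO]
        trivial
      exact this
    exact IsOpenImmersion.isIso _
  haveI : IsClosedImmersion (Spec.map (CommRingCat.ofHom (Ideal.Quotient.mk K))) :=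
    IsClosedImmersion.spec_of_surjective _ Ideal.Quotient.mk_surjective
  haveI : IsClosedImmersion z := inferInstanceAs (IsClosedImmersion (_ ≫ hP'.fromSpec))
  let α : A' ⟶ Q :=
    (Scheme.ΓSpecIso A').inv ≫ (pullback.snd f T.hom).appLE ⊤ P' inf_le_right ≫
      CommRingCat.ofHom (Ideal.Quotient.mk K)
  have hzα : z ≫ PicF.XTproj f T = Spec.map α := by
    refine (Category.assoc _ _ _).trans ?_
    simp only [α, Spec.map_comp, Category.assoc]
    congr 1
    have h1 : hP'.fromSpec ≫ pullback.snd f T.hom =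
        Spec.map ((pullback.snd f T.hom).appLE ⊤ P' inf_le_right) ≫ (isAffineOpen_top T.left).fromSpec :=
      (IsAffineOpen.SpecMap_appLE_fromSpec _ (isAffineOpen_top T.left) hP' inf_le_right).symm
    refine h1.trans (congrArg (_ ≫ ·) ?_)
    rw [IsAffineOpen.fromSpec_top]
    show (Spec A').isoSpec.inv = _
    rw [Scheme.isoSpec_Spec_inv]
  have hdeg : Mor2.IsFinLocFreeOfDeg d (z.ker.subschemeι ≫ PicF.XTproj f T) := by
    rw [HilbRepLib.deg_comp_iso z.toImage]
    show Mor2.IsFinLocFreeOfDeg d (z.toImage ≫ z.imageι ≫ _)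
    rw [Scheme.Hom.toImage_imageι_assoc, hzα, Spec.map_comp]
    exact deg_comp_iso_right _ (deg_kerQuot ((pullback.snd f T.hom).appLE ⊤ P' inf_le_right) K φ.toAddMonoidHom
      (fun b x => map_smul φ b x) (fun x => Iff.rfl) hφsurj)
  refine ⟨⟨z.ker, hdeg⟩, ?_⟩
  let Z : HilbD.Obj f d T := ⟨z.ker, hdeg⟩
  -- elements of the kernel vanish on the family
  have hK : ∀ x ∈ K, Z.1.subschemeι.app P' x = 0 := fun x hx => by
    have h1 : x ∈ Z.1.ideal ⟨P', hP'⟩ := by
      show x ∈ z.ker.ideal ⟨P', hP'⟩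
      rw [Scheme.Hom.ker_apply, RingHom.mem_ker]
      show z.app P' x = 0
      show (Spec.map _).app (hP'.fromSpec ⁻¹ᵁ P') (hP'.fromSpec.app P' x) = 0
      rw [hP'.fromSpec_app_self, CommRingCat.comp_apply]
      generalize hP'.fromSpec_preimage_self = hpre
      revert hpre
      generalize hP'.fromSpec ⁻¹ᵁ P' = V
      rintro rfl
      simp only [eqToHom_refl, op_id, CategoryTheory.Functor.map_id, CommRingCat.id_apply]
      refine (congr($((Scheme.ΓSpecIso_inv_naturality (CommRingCat.ofHom (Ideal.Quotient.mk K))).symm) x)).trans ?_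
      rw [CommRingCat.comp_apply, show (CommRingCat.ofHom (Ideal.Quotient.mk K)) x = 0 from
        Ideal.Quotient.eq_zero_iff_mem.2 hx, map_zero]
    rw [← Z.1.ker_subschemeι, Scheme.Hom.ker_apply, RingHom.mem_ker] at h1
    exact h1
  have hK' : ∀ x ∈ K, zRes Z ⊤ ((pullback f T.hom).presheaf.map
      (eqToHom (inf_eq_right.2 (le_proj e)).symm).op x) = 0 := fun x hx => by
    refine (congr($(Z.1.subschemeι.naturality (eqToHom (inf_eq_right.2 (le_proj e)).symm).op) x)).trans ?_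
    rw [CommRingCat.comp_apply]
    exact (congrArg _ (hK x hx)).trans (map_zero _)
  let F : Fin d → Γ((hilbQ Z).L, ⊤) := fun b => vecS (hilbQ Z) e (i.σ (i.I b))
  have hlin : ∀ m, vecS (hilbQ Z) e (i.σ m) = ∑ b, c m b • F b := by
    intro m
    let x := ι₀ (toX f (i.σ m)) - ∑ b, c m b • ι₀ (toX f (i.σ (i.I b)))
    have hx : x ∈ K := by
      show φ x = 0
      rw [map_sub, map_sum, hφ, hκσ, sub_eq_zero]
      simp only [map_smul, hcI]
      funext a
      simp [Pi.single_apply]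
    have h1 := hK' x hx
    simp only [x, map_sub, map_sum, sub_eq_zero] at h1
    simp only [F, vecS_hilbQ Z i.hU e]
    have h2 : ∀ v : Γ(X, f ⁻¹ᵁ i.U), zRes Z ⊤ ((pullback f T.hom).presheaf.map
        (eqToHom (inf_eq_right.2 (le_proj e)).symm).op (ι₀ v)) = zFun Z e v := fun v => by
      refine Eq.trans ?_ (zRes_fst Z e v)
      exact congrArg _ (congr($((pullback.fst f T.hom).appLE_map inf_le_left
        (eqToHom (inf_eq_right.2 (le_proj e)).symm).op) v))
    rw [h2] at h1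
    refine h1.trans (Finset.sum_congr rfl fun b _ => ?_)
    show zRes Z ⊤ (_) = (zProj Z).app ⊤ (c m b) * zFun Z e (toX f (i.σ (i.I b)))
    rw [show c m b • ι₀ (toX f (i.σ (i.I b))) =
      (pullback.snd f T.hom).appLE ⊤ P' inf_le_right (c m b) * ι₀ (toX f (i.σ (i.I b))) from rfl,
      map_mul, map_mul, h2, ← zRes_snd]
    congr 2
    rw [Scheme.Hom.app_eq_appLE]
    exact congr($((pullback.snd f T.hom).appLE_map inf_le_right
      (eqToHom (inf_eq_right.2 (le_proj e)).symm).op) (c m b))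
  have hF : IsFrame ⊤ F := by
    refine (isFrame_iff_spanAt (hilbQ Z).rank _).2 fun x hx => ?_
    haveI : Coh.IsQCoh (hilbQ Z).L := isQCoh_ringP Z
    refine spanAt_affine (isAffineOpen_top T.left) ?_ hx
    rw [eq_top_iff, ← span_zFun Z i.hU i.hσ (isAffineOpen_top T.left) e, Submodule.span_le]
    rintro _ ⟨m, rfl⟩
    show (zFun Z e (toX f (i.σ m)) : Γ(ringP Z, ⊤)) ∈ _
    rw [show (zFun Z e (toX f (i.σ m)) : Γ(ringP Z, ⊤)) = vecS (hilbQ Z) e (i.σ m) from
      (vecS_hilbQ Z i.hU e _).symm, hlin]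
    exact Submodule.sum_mem _ fun b _ => Submodule.smul_mem _ _ (Submodule.subset_span ⟨b, rfl⟩)
  obtain ⟨a, ha⟩ := i.exists_lift (hilbQ Z) e fun x => ((isFrame_iff_spanAt (hilbQ Z).rank _).1 hF) x trivial
  suffices a = j by subst this; exact ha
  refine i.hom_ext fun m b => ?_
  let D := i.univD.bc a.left (Over.w a)
  haveI := D.epi
  haveI := (hilbQ Z).epi
  rw [QData.bc_cls] at ha
  obtain ⟨ε, hε⟩ := exists_iso_of_kerS_eq D.s (hilbQ Z).s (congrArg Subtype.val ha)
  have hF' : ∀ b, ε.hom.app ⊤ (i.frameBC a b) = F b := fun b => by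
    show _ = vecS (hilbQ Z) e (i.σ (i.I b))
    rw [← vecS_iso ε hε e]
    refine congrArg _ ?_
    rw [vecS_bc_top i.univD a.left (Over.w a) i.le_preimage e, i.vecS_univ_self]
    rfl
  have h1 := coordsV_map D (i.isFrame_frameBC a) e (hilbQ Z) hF ε.hom hF' e (i.σ m) (vecS_iso ε hε e _)
  rw [coordsV_eq (hilbQ Z) hF e (hlin m).symm, coordsV_eq D (i.isFrame_frameBC a) e
    (c := fun b => a.left.appTop (i.coord m b)) (i.vecS_bc a m).symm] at h1
  exact (congrFun h1 b).symm

variable (f) in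
/-- The Hilbert scheme of points embeds in the Grassmannian. -/
theorem exists_closedImmersion {H : Over S} (Z : HilbD.Obj f d H) (hZ : HilbD.IsUniversal f d H Z)
    {G : Scheme.{u}} {π : G ⟶ S} {Q : G.Modules} {q : (Scheme.Modules.pullback π).obj (ringE f) ⟶ Q}
    (hG : IsGrass π (ringE f) d Q q) : ∃ c : H.left ⟶ G, IsClosedImmersion c ∧ c ≫ π = H.hom := by
  let c := clsMap hG (hilbQ Z)
  let U₀ : QData (ringE f) d π := ⟨Q, q, hG.rank, hG.epi⟩
  have hc : c ≫ π = H.hom := clsMap_comp hG _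
  have hbc : ∀ {T : Over S} (g : T ⟶ H),
      U₀.cls.bc (g.left ≫ c) (by rw [Category.assoc, hc, Over.w g]) =
        (hilbQ (⟨HilbD.pull f g Z.1, HilbCurveLib.pull_deg f g Z.2⟩ : HilbD.Obj f d T)).cls := fun g => by
    rw [← bc_hilbQ g Z ⟨_, HilbCurveLib.pull_deg f g Z.2⟩ rfl, ← bc_clsMap hG (hilbQ Z)]
    exact (RQ.bc_bc _ _ _ _ _).symm
  have hmono : ∀ {T : Over S} (g g' : T ⟶ H), g.left ≫ c = g'.left ≫ c → g = g' := fun {T} g g' h => by
    let W' : HilbD.Obj f d T := ⟨HilbD.pull f g' Z.1, HilbCurveLib.pull_deg f g' Z.2⟩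
    refine (hZ T W').unique ?_ rfl
    have h1 : (⟨HilbD.pull f g Z.1, HilbCurveLib.pull_deg f g Z.2⟩ : HilbD.Obj f d T) = W' :=
      obj_ext (((hbc g).symm.trans (RQ.bc_congr _ h _ _)).trans (hbc g'))
    exact congrArg Subtype.val h1
  refine ⟨c, (IsZariskiLocalAtTarget.iff_of_iSup_eq_top (P := @IsClosedImmersion)
    (fun i : Idx (ringE f) d => chartOpen hG i) (top_le_iff.1 fun y _ =>
      Opens.mem_iSup.2 (exists_mem_chartOpen hG (isFT_ringE f) y))).2 fun i => ?_, hc⟩
  let V := chartOpen hG i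
  let T : Over S := Over.mk ((c ⁻¹ᵁ V).ι ≫ H.hom)
  let g : T ⟶ H := Over.homMk (c ⁻¹ᵁ V).ι rfl
  let t : T ⟶ Over.mk π := Over.homMk (g.left ≫ c) (by
    show (g.left ≫ c) ≫ π = _
    rw [Category.assoc, hc]
    rfl)
  obtain ⟨a, ha⟩ := (chartOpen_spec hG i T t).2 (by
    rintro _ ⟨y, rfl⟩
    exact y.2)
  have hac : a.left ≫ chartMap hG i = g.left ≫ c := by
    refine hom_ext_of_cls hG (g := T.hom) (by rw [Category.assoc, chartMap_comp]; exact Over.w a)
      (Over.w t) ?_
    refine Eq.trans ?_ ha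
    rw [← bc_clsMap hG i.univD]
    exact (RQ.bc_bc _ _ _ _ _).symm
  obtain ⟨k, hk⟩ := exists_factor_jW i a
    (eqn_zero i ⟨HilbD.pull f g Z.1, HilbCurveLib.pull_deg f g Z.2⟩ a (ha.trans (hbc g)))
  obtain ⟨ZW, hZW⟩ := exists_obj_Wc (f := f) i
  obtain ⟨ψ, hψ, -⟩ := hZ (Wc i) ZW
  have hψc : ψ.left ≫ c = (jW i).left ≫ chartMap hG i := by
    refine hom_ext_of_cls hG (g := (Wc i).hom) (by rw [Category.assoc, hc]; exact Over.w ψ)
      (by rw [Category.assoc, chartMap_comp]; exact Over.w (jW i)) ?_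
    rw [hbc ψ, show (⟨HilbD.pull f ψ Z.1, HilbCurveLib.pull_deg f ψ Z.2⟩ : HilbD.Obj f d (Wc i)) = ZW from
      Subtype.ext hψ, ← hZW, ← bc_clsMap hG i.univD]
    exact RQ.bc_bc _ _ _ _ _
  haveI := isOpenImmersion_chartMap hG i
  have hka : k.left ≫ (jW i).left = a.left := congrArg CommaMorphism.left hk
  have hkψ : k ≫ ψ = g := hmono _ _ (by
    show (k.left ≫ ψ.left) ≫ c = g.left ≫ c
    rw [Category.assoc, hψc, reassoc_of% hka, hac])
  let l : (Wc i).left ⟶ T.left := IsOpenImmersion.lift (c ⁻¹ᵁ V).ι ψ.left (by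
    refine Set.Subset.trans ?_ (Scheme.Opens.range_ι _).ge
    rintro _ ⟨w, rfl⟩
    show c (ψ.left w) ∈ V
    rw [← Scheme.Hom.comp_apply, hψc]
    exact range_chartMap_subset hG i ⟨_, rfl⟩)
  have hl : l ≫ g.left = ψ.left := IsOpenImmersion.lift_fac _ _ _
  haveI : IsIso k.left := by
    refine ⟨l, ?_, ?_⟩
    · rw [← cancel_mono (c ⁻¹ᵁ V).ι, Category.assoc, Category.id_comp]
      show k.left ≫ l ≫ g.left = g.left
      rw [hl]
      exact congrArg CommaMorphism.left hkψ
    · rw [← cancel_mono (jW i).left, ← cancel_mono (chartMap hG i), Category.assoc, Category.assoc, Category.id_comp,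
        reassoc_of% hka, hac, reassoc_of% hl, hψc]
  obtain ⟨e, he⟩ := exists_iso_chartOpen hG i
  have h1 : c ∣_ V = k.left ≫ (jW i).left ≫ e.hom := by
    rw [← cancel_mono V.ι, morphismRestrict_ι, Category.assoc, Category.assoc, he, reassoc_of% hka, hac]
    rfl
  rw [h1]
  infer_instance

end Groth.Agent.HilbProjLib
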