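import Groth.Agent.GrassShLib.Flag
import Groth.Agent.HilbCurveLib.Pull
import Groth.Agent.FinLocFreeLib.Basic
import Groth.Agent.GenBCLib.BCMain
import Groth.Agent.ProjBundleLib.Exist
import Groth.Agent.PullbackMod.Flat

/-!
# The quotient of the direct image algebra given by a family of points
-/

set_option autoImplicit false
set_option backward.isDefEq.respectTransparency false
set_option linter.style.haveILetI false

universe u

open CategoryTheory CategoryTheory.Limits AlgebraicGeometry TopologicalSpace Opposite Grass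
open Groth.Agent.PullbackMod Groth.Agent.FlagLib Groth.Agent.GrassShLib Groth.Agent.DCohLib

noncomputable section

namespace Groth.Agent.HilbProjLib

variable {X S : Scheme.{u}} (f : X ⟶ S) {d : ℕ}

/-- The direct image of the structure sheaf. -/
abbrev ringE : S.Modules := (Scheme.Modules.pushforward f).obj (Coh.structureModule X)

section qcoh

variable [IsFinite f]

theorem isQCoh_ringE : Coh.IsQCoh (ringE f) :=
  haveI : Coh.IsQCoh (Coh.structureModule X) := inferInstance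
  QCohLib.isQCoh_pushforward (Coh.structureModule X) f

theorem isFT_ringE : CohB1.IsFT (ringE f) := by
  haveI := isQCoh_ringE f
  refine QCohLib.isFiniteType_of_finite _ (fun U : S.affineOpens => U.1) (fun U => U.2)
    (iSup_affineOpens_eq_top S) fun U => ?_
  have h1 : (f.app U.1).hom.Finite := IsFinite.finite_app (f := f) U.1 U.2
  algebraize [(f.app U.1).hom]
  let e : Γ(X, f ⁻¹ᵁ U.1) ≃ₗ[Γ(S, U.1)] Γ(ringE f, U.1) :=
    { AddEquiv.refl _ with map_smul' := fun r s => Algebra.smul_def r s }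
  exact Module.Finite.equiv e

end qcoh

/-- Epimorphisms from spanning images. -/
theorem epi_of_spanAt {T : Scheme.{u}} {M L : T.Modules} (s : M ⟶ L)
    (h : ∀ x : T, ∃ (W : T.Opens) (n : ℕ) (v : Fin n → Γ(M, W)) (hx : x ∈ W),
      SpanAt (fun j => s.app W (v j)) x hx) : Epi s := by
  refine (epi_iff_stalk s).2 fun x => ?_
  obtain ⟨W, n, v, hx, hv⟩ := h x
  rw [← LinearMap.range_eq_top, eq_top_iff, ← hv, Submodule.span_le]
  rintro _ ⟨j, rfl⟩
  exact ⟨_, stalkLin_germ s (U := W) x hx (v j)⟩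

variable {f}

section family

variable {T : Over S} (Z : HilbD.Obj f d T)

/-- The projection of a family to the scheme. -/
def zMap : Z.1.subscheme ⟶ X := Z.1.subschemeι ≫ pullback.fst f T.hom

/-- The projection of a family to the base. -/
def zProj : Z.1.subscheme ⟶ T.left := Z.1.subschemeι ≫ PicF.XTproj f T

theorem zMap_comp : zMap Z ≫ f = zProj Z ≫ T.hom := by
  show (Z.1.subschemeι ≫ pullback.fst f T.hom) ≫ f = (Z.1.subschemeι ≫ pullback.snd f T.hom) ≫ T.hom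
  rw [Category.assoc, Category.assoc, pullback.condition]

/-- The direct image of a family. -/
abbrev ringP : T.left.Modules := (Scheme.Modules.pushforward (zProj Z)).obj (Coh.structureModule Z.1.subscheme)

theorem le_zProj {U : S.Opens} {W : T.left.Opens} (e : W ≤ T.hom ⁻¹ᵁ U) :
    zProj Z ⁻¹ᵁ W ≤ zMap Z ⁻¹ᵁ (f ⁻¹ᵁ U) := by
  rw [← Scheme.Hom.comp_preimage, zMap_comp, Scheme.Hom.comp_preimage]
  exact (zProj Z).preimage_mono e

/-- The image of a function in the functions of a family. -/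
def zFun {U : S.Opens} {W : T.left.Opens} (e : W ≤ T.hom ⁻¹ᵁ U) :
    Γ(X, f ⁻¹ᵁ U) →+* Γ(Z.1.subscheme, zProj Z ⁻¹ᵁ W) :=
  ((zMap Z).appLE (f ⁻¹ᵁ U) (zProj Z ⁻¹ᵁ W) (le_zProj Z e)).hom

theorem zFun_res {U : S.Opens} {W W' : T.left.Opens} (e : W ≤ T.hom ⁻¹ᵁ U) (h : W' ≤ W) (b : Γ(X, f ⁻¹ᵁ U)) :
    (ringP Z).presheaf.map (homOfLE h).op (zFun Z e b) = zFun Z (h.trans e) b :=
  congr($((zMap Z).appLE_map (le_zProj Z e) (homOfLE ((zProj Z).preimage_mono h)).op) b)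

theorem zFun_algebra {U : S.Opens} {W : T.left.Opens} (e : W ≤ T.hom ⁻¹ᵁ U) (a : Γ(S, U)) :
    zFun Z e (f.app U a) = (zProj Z).app W (T.hom.appLE U W e a) := by
  have h1 : f.app U ≫ (zMap Z).appLE (f ⁻¹ᵁ U) (zProj Z ⁻¹ᵁ W) (le_zProj Z e) =
      T.hom.appLE U W e ≫ (zProj Z).app W := by
    rw [Scheme.Hom.app_eq_appLE, Scheme.Hom.app_eq_appLE, Scheme.Hom.appLE_comp_appLE,
      Scheme.Hom.appLE_comp_appLE]
    simp only [zMap_comp]
  exact congr($(h1) a)

/-- The image of a section of the algebra in the direct image of a family. -/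
abbrev zv {U : S.Opens} {W : T.left.Opens} (e : W ≤ T.hom ⁻¹ᵁ U) : Γ(ringE f, U) →+ Γ(ringP Z, W) :=
  (zFun Z e).toAddMonoidHom

theorem zv_smul {U : S.Opens} {W : T.left.Opens} (e : W ≤ T.hom ⁻¹ᵁ U) (a : Γ(S, U)) (v : Γ(ringE f, U)) :
    zv Z e (a • v) = T.hom.appLE U W e a • zv Z e v := by
  show zFun Z e (f.app U a * (show Γ(X, f ⁻¹ᵁ U) from v)) = (zProj Z).app W (T.hom.appLE U W e a) * zFun Z e v
  rw [map_mul, zFun_algebra]

theorem exists_α : ∃ α : ringE f ⟶ (Scheme.Modules.pushforward T.hom).obj (ringP Z),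
    ∀ (U : S.Opens), IsAffineOpen U → ∀ b : Γ(X, f ⁻¹ᵁ U),
      (α.app U b : Γ(Z.1.subscheme, zProj Z ⁻¹ᵁ (T.hom ⁻¹ᵁ U))) = zFun Z (le_refl (T.hom ⁻¹ᵁ U)) b := by
  obtain ⟨F, hF⟩ := ProjBundleLib.exists_hom_of_affine (E := ringE f)
    (N := (Scheme.Modules.pushforward T.hom).obj (ringP Z))
    (fun U => (zFun Z (le_refl (T.hom ⁻¹ᵁ U.1))).toAddMonoidHom) (fun U hU r b => by
      show (ringP Z).presheaf.map (homOfLE (T.hom.preimage_mono (S.basicOpen_le r))).op (zFun Z le_rfl b) = _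
      rw [zFun_res]
      exact (congr($((zMap Z).map_appLE (le_zProj Z (le_refl (T.hom ⁻¹ᵁ S.basicOpen r)))
        (homOfLE (f.preimage_mono (S.basicOpen_le r))).op) b)).symm) (fun U a b => by
      show zFun Z le_rfl (f.app U.1 a * (show Γ(X, f ⁻¹ᵁ U.1) from b)) =
        (zProj Z).app _ (T.hom.app U.1 a) * zFun Z le_rfl b
      rw [map_mul, zFun_algebra, Scheme.Hom.app_eq_appLE T.hom])
  exact ⟨F, fun U hU b => hF U hU b⟩

/-- The map to the direct image of a family. -/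
def hilbMap : (Scheme.Modules.pullback T.hom).obj (ringE f) ⟶ ringP Z :=
  ((Scheme.Modules.pullbackPushforwardAdjunction T.hom).homEquiv _ _).symm (exists_α Z).choose

theorem hilbMap_pullMap {U : S.Opens} (hU : IsAffineOpen U) {W : T.left.Opens} (e : W ≤ T.hom ⁻¹ᵁ U)
    (b : Γ(ringE f, U)) : (hilbMap Z).app W (pullMap T.hom (ringE f) e b) = zFun Z e b :=
  (GenBCLib.transpose_pullMap' T.hom (exists_α Z).choose e b _ ((exists_α Z).choose_spec U hU b)).trans
    (zFun_res Z le_rfl e b)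

variable [IsFinite f]

theorem le_proj {U : S.Opens} {W : T.left.Opens} (e : W ≤ T.hom ⁻¹ᵁ U) :
    PicF.XTproj f T ⁻¹ᵁ W ≤ pullback.fst f T.hom ⁻¹ᵁ (f ⁻¹ᵁ U) := by
  rw [← Scheme.Hom.comp_preimage, pullback.condition, Scheme.Hom.comp_preimage]
  exact (pullback.snd f T.hom).preimage_mono e

/-- Sections over an affine piece of the fibre product are generated by the functions of the scheme. -/
theorem gen_induction {U : S.Opens} (hU : IsAffineOpen U) {W : T.left.Opens} (hW : IsAffineOpen W)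
    (e : W ≤ T.hom ⁻¹ᵁ U) {motive : Γ(PicF.XT f T, PicF.XTproj f T ⁻¹ᵁ W) → Prop}
    (hb : ∀ b : Γ(X, f ⁻¹ᵁ U), motive ((pullback.fst f T.hom).appLE (f ⁻¹ᵁ U) _ (le_proj e) b))
    (h0 : motive 0) (hadd : ∀ x y, motive x → motive y → motive (x + y))
    (hsmul : ∀ (c : Γ(T.left, W)) x, motive x → motive ((PicF.XTproj f T).app W c * x))
    (x : Γ(PicF.XT f T, PicF.XTproj f T ⁻¹ᵁ W)) : motive x := by
  obtain ⟨-, hpo⟩ := PullbackMod.isPushout_appLE (IsPullback.of_hasPullback f T.hom) hU (hU.preimage f) hW le_rfl e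
  have hO : pullback.fst f T.hom ⁻¹ᵁ (f ⁻¹ᵁ U) ⊓ pullback.snd f T.hom ⁻¹ᵁ W = PicF.XTproj f T ⁻¹ᵁ W :=
    inf_eq_right.2 (le_proj e)
  suffices key : ∀ (O : (PicF.XT f T : Scheme.{u}).Opens)
      (hO : O = PicF.XTproj f T ⁻¹ᵁ W) (y : Γ(PicF.XT f T, O)),
      motive ((PicF.XT f T : Scheme.{u}).presheaf.map (eqToHom hO.symm).op y) by
    have := key _ rfl x
    simpa using this
  intro O hO' y
  obtain rfl : O = pullback.fst f T.hom ⁻¹ᵁ (f ⁻¹ᵁ U) ⊓ pullback.snd f T.hom ⁻¹ᵁ W := hO'.trans hO.symm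
  let ρ := (PicF.XT f T : Scheme.{u}).presheaf.map (eqToHom hO'.symm).op
  letI : Algebra Γ(S, U) Γ(X, f ⁻¹ᵁ U) := (f.appLE U (f ⁻¹ᵁ U) le_rfl).hom.toAlgebra
  letI : Algebra Γ(S, U) Γ(T.left, W) := (T.hom.appLE U W e).hom.toAlgebra
  let O' := pullback.fst f T.hom ⁻¹ᵁ (f ⁻¹ᵁ U) ⊓ pullback.snd f T.hom ⁻¹ᵁ W
  letI : Algebra Γ(X, f ⁻¹ᵁ U) Γ(pullback f T.hom, O') :=
    ((pullback.fst f T.hom).appLE (f ⁻¹ᵁ U) _ inf_le_left).hom.toAlgebra
  letI : Algebra Γ(T.left, W) Γ(pullback f T.hom, O') :=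
    ((pullback.snd f T.hom).appLE W _ inf_le_right).hom.toAlgebra
  letI : Algebra Γ(S, U) Γ(pullback f T.hom, O') :=
    (((pullback.fst f T.hom).appLE (f ⁻¹ᵁ U) O' inf_le_left).hom.comp (f.appLE U _ le_rfl).hom).toAlgebra
  haveI : IsScalarTower Γ(S, U) Γ(X, f ⁻¹ᵁ U) Γ(pullback f T.hom, O') := .of_algebraMap_eq fun _ => rfl
  haveI : IsScalarTower Γ(S, U) Γ(T.left, W) Γ(pullback f T.hom, O') :=
    .of_algebraMap_eq' (by
      show ((f.appLE U _ le_rfl) ≫ (pullback.fst f T.hom).appLE _ O' inf_le_left).hom =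
        ((T.hom.appLE U W e) ≫ (pullback.snd f T.hom).appLE W O' inf_le_right).hom
      simp only [Scheme.Hom.appLE_comp_appLE, pullback.condition])
  induction y using hpo.out.inductionOn with
  | zero => rw [map_zero]; exact h0
  | tmul b =>
    have := hb b
    convert this using 1
    exact congr($((pullback.fst f T.hom).appLE_map inf_le_left (eqToHom hO'.symm).op) b)
  | smul c y hy =>
    have := hsmul c _ hy
    convert this using 1
    show ρ ((pullback.snd f T.hom).appLE W _ inf_le_right c * y) = _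
    rw [map_mul]
    congr 1
    rw [Scheme.Hom.app_eq_appLE]
    exact congr($((pullback.snd f T.hom).appLE_map inf_le_right (eqToHom hO'.symm).op) c)
  | add y z hy hz => rw [map_add]; exact hadd _ _ hy hz

/-- The restriction of functions to a family. -/
abbrev zRes (W : T.left.Opens) : Γ(PicF.XT f T, PicF.XTproj f T ⁻¹ᵁ W) →+* Γ(Z.1.subscheme, zProj Z ⁻¹ᵁ W) :=
  (Z.1.subschemeι.app (PicF.XTproj f T ⁻¹ᵁ W)).hom

theorem zRes_fst {U : S.Opens} {W : T.left.Opens} (e : W ≤ T.hom ⁻¹ᵁ U) (b : Γ(X, f ⁻¹ᵁ U)) :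
    zRes Z W ((pullback.fst f T.hom).appLE (f ⁻¹ᵁ U) _ (le_proj e) b) = zFun Z e b := by
  show ((pullback.fst f T.hom).appLE _ _ _ ≫ Z.1.subschemeι.app _) b = _
  rw [Scheme.Hom.app_eq_appLE, Scheme.Hom.appLE_comp_appLE]
  rfl

theorem zRes_snd {W : T.left.Opens} (c : Γ(T.left, W)) :
    zRes Z W ((PicF.XTproj f T).app W c) = (zProj Z).app W c :=
  congr($((Scheme.Hom.comp_app Z.1.subschemeι (PicF.XTproj f T) W).symm) c)

/-- The restriction of functions, with values in the direct image. -/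
abbrev zr (W : T.left.Opens) : Γ(PicF.XT f T, PicF.XTproj f T ⁻¹ᵁ W) →+ Γ(ringP Z, W) :=
  (zRes Z W).toAddMonoidHom

theorem zr_smul {W : T.left.Opens} (c : Γ(T.left, W)) (x : Γ(PicF.XT f T, PicF.XTproj f T ⁻¹ᵁ W)) :
    zr Z W ((PicF.XTproj f T).app W c * x) = c • zr Z W x := by
  show zRes Z W ((PicF.XTproj f T).app W c * x) = (zProj Z).app W c * zRes Z W x
  rw [map_mul, zRes_snd]

theorem isQCoh_ringP : Coh.IsQCoh (ringP Z) := by
  haveI : IsFinite (zProj Z) := Z.2.1.1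
  exact QCohLib.isQCoh_pushforward (Coh.structureModule Z.1.subscheme) (zProj Z)

theorem span_zFun {U : S.Opens} (hU : IsAffineOpen U) {n : ℕ} {σ : Fin n → Γ(ringE f, U)}
    (hσ : Submodule.span Γ(S, U) (Set.range σ) = ⊤) {W : T.left.Opens} (hW : IsAffineOpen W)
    (e : W ≤ T.hom ⁻¹ᵁ U) :
    Submodule.span Γ(T.left, W) (Set.range fun j => zv Z e (σ j)) = ⊤ := by
  refine eq_top_iff.2 fun y hy => ?_
  clear hy
  haveI : IsFinite (pullback.snd f T.hom) := inferInstance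
  obtain ⟨x, rfl⟩ : ∃ x, zRes Z W x = y :=
    Scheme.Hom.app_surjective Z.1.subschemeι (PicF.XTproj f T ⁻¹ᵁ W) (hW.preimage _) y
  refine gen_induction hU hW e (motive := fun x => zRes Z W x ∈ _) (fun b => ?_) ?_ (fun x y hx hy => ?_)
    (fun c x hx => ?_) x
  ·
    rw [zRes_fst Z e]
    show zv Z e b ∈ _
    have hb : (b : Γ(ringE f, U)) ∈ Submodule.span Γ(S, U) (Set.range σ) := by rw [hσ]; trivial
    induction hb using Submodule.span_induction with
    | mem w hw => obtain ⟨j, rfl⟩ := hw; exact Submodule.subset_span ⟨j, rfl⟩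
    | zero => rw [map_zero]; exact Submodule.zero_mem _
    | add w w' _ _ hw hw' => rw [map_add]; exact Submodule.add_mem _ hw hw'
    | smul a w _ hw => rw [zv_smul]; exact Submodule.smul_mem _ _ hw
  · rw [map_zero]; exact Submodule.zero_mem _
  · rw [map_add]; exact Submodule.add_mem _ hx hy
  · rw [map_mul, zRes_snd]; exact Submodule.smul_mem _ c hx

theorem epi_hilbMap : Epi (hilbMap Z) := by
  haveI := isQCoh_ringP Z
  haveI := isQCoh_ringE f
  refine epi_of_spanAt _ fun x => ?_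
  obtain ⟨_, ⟨U : S.Opens, hU : IsAffineOpen U, rfl⟩, hxU, -⟩ :=
    S.isBasis_affineOpens.exists_subset_of_mem_open (Set.mem_univ (T.hom x)) isOpen_univ
  obtain ⟨_, ⟨W : T.left.Opens, hW : IsAffineOpen W, rfl⟩, hxW, hWU⟩ :=
    T.left.isBasis_affineOpens.exists_subset_of_mem_open (a := x) (u := (T.hom ⁻¹ᵁ U : Set T.left)) hxU
      (T.hom ⁻¹ᵁ U).2
  haveI := QCohLib.finite_sections (ringE f) (isFT_ringE f) hU
  obtain ⟨n, σ, hσ⟩ := Module.Finite.exists_fin (R := Γ(S, U)) (M := Γ(ringE f, U))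
  refine ⟨W, n, fun j => pullMap T.hom (ringE f) hWU (σ j), hxW, ?_⟩
  simp only [hilbMap_pullMap Z hU]
  exact spanAt_affine hW (span_zFun Z hU hσ hW hWU) hxW

omit [IsFinite f] in
theorem rank_ringP : FlatMod.IsFinLocFreeOfRank d (ringP Z) := by
  have hl := FinLocFreeLib.isFinLocFree_push (zProj Z) Z.2.1
  obtain ⟨hq, hfp⟩ := isQCoh_and_isFP_of_isFinLocFree _ hl
  haveI := hq
  refine (isFinLocFreeOfRank_iff_freeAt _ hfp d).2 fun t => ?_
  obtain ⟨m, hm⟩ := (isFinLocFree_iff_freeAt _ hfp).1 hl t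
  suffices m = d by subst this; exact hm
  obtain ⟨_, ⟨W : T.left.Opens, hW : IsAffineOpen W, rfl⟩, htW, -⟩ :=
    T.left.isBasis_affineOpens.exists_subset_of_mem_open (Set.mem_univ t) isOpen_univ
  rw [← fibreRank_eq_of_freeAt _ hm, fibreRank_eq _ hW t htW]
  obtain ⟨hfin, hflat, hlfp⟩ : IsFinite (zProj Z) ∧ Flat (zProj Z) ∧ LocallyOfFinitePresentation (zProj Z) := Z.2.1
  have h1 : ((zProj Z).app W).hom.Finite := IsFinite.finite_app (f := zProj Z) W hW
  have h2 : ((zProj Z).app W).hom.Flat := by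
    rw [Scheme.Hom.app_eq_appLE]
    exact HasRingHomProperty.appLE @Flat (zProj Z) inferInstance ⟨W, hW⟩
      ⟨zProj Z ⁻¹ᵁ W, hW.preimage _⟩ le_rfl
  have hsq : IsPullback (hW.preimage (zProj Z)).fromSpec (Spec.map ((zProj Z).app W)) (zProj Z) hW.fromSpec :=
    (IsOpenImmersion.isPullback _ _ _ _ (by
      rw [Scheme.Hom.app_eq_appLE]; exact (IsAffineOpen.SpecMap_appLE_fromSpec _ hW _ le_rfl).symm) (by
      rw [IsAffineOpen.opensRange_fromSpec, IsAffineOpen.opensRange_fromSpec])).flip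
  have key := Scheme.Hom.finrank_of_isPullback _ _ _ _ hsq (hW.primeIdealOf ⟨t, htW⟩)
  rw [show (zProj Z).finrank (hW.fromSpec (hW.primeIdealOf ⟨t, htW⟩)) = d from Z.2.2 _,
    Scheme.Hom.finrank_SpecMap_eq_finrank h1 h2] at key
  algebraize [((zProj Z).app W).hom]
  haveI : Module.Finite Γ(T.left, W) Γ(Z.1.subscheme, zProj Z ⁻¹ᵁ W) := RingHom.finite_algebraMap.1 h1
  haveI : Module.Flat Γ(T.left, W) Γ(Z.1.subscheme, zProj Z ⁻¹ᵁ W) := RingHom.flat_algebraMap_iff.1 h2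
  rw [← RingHom.algebraMap_toAlgebra ((zProj Z).app W).hom, RingHom.finrank_algebraMap] at key
  refine Eq.trans ?_ key
  rw [Module.rankAtStalk_eq]
  let e₀ : Γ(Z.1.subscheme, zProj Z ⁻¹ᵁ W) ≃ₗ[Γ(T.left, W)] Γ(ringP Z, W) :=
    { AddEquiv.refl _ with map_smul' := fun r s => Algebra.smul_def r s }
  exact (e₀.baseChange Γ(T.left, W) (hW.primeIdealOf ⟨t, htW⟩).asIdeal.ResidueField).finrank_eq.symm

/-- The quotient of a family. -/
def hilbQ : QData (ringE f) d T.hom where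
  L := ringP Z
  s := hilbMap Z
  rank := rank_ringP Z
  epi := epi_hilbMap Z

theorem vecS_hilbQ {U : S.Opens} (hU : IsAffineOpen U) {W : T.left.Opens} (e : W ≤ T.hom ⁻¹ᵁ U)
    (b : Γ(ringE f, U)) : vecS (hilbQ Z) e b = zFun Z e b := hilbMap_pullMap Z hU e b

end family

section pull

variable {T T' : Over S} (g : T' ⟶ T) (Z : HilbD.Obj f d T) (Z' : HilbD.Obj f d T')

theorem exists_kMap (h : Z'.1 = HilbD.pull f g Z.1) :
    ∃ k : Z'.1.subscheme ⟶ Z.1.subscheme, k ≫ zProj Z = zProj Z' ≫ g.left ∧ k ≫ zMap Z = zMap Z' := by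
  obtain ⟨J, hJ⟩ := Z'
  rw [HilbCurveLib.pull_eq] at h
  change J = _ at h
  subst h
  have hk : ((Z.1.comapIso (PicF.XTmap f g)).hom ≫ pullback.snd (PicF.XTmap f g) Z.1.subschemeι) ≫ Z.1.subschemeι =
      (Z.1.comap (PicF.XTmap f g)).subschemeι ≫ PicF.XTmap f g := by
    rw [Category.assoc, ← pullback.condition, Scheme.IdealSheafData.comapIso_hom_fst_assoc]
  refine ⟨(Z.1.comapIso (PicF.XTmap f g)).hom ≫ pullback.snd (PicF.XTmap f g) Z.1.subschemeι, ?_, ?_⟩
  · show _ ≫ Z.1.subschemeι ≫ PicF.XTproj f T = ((Z.1.comap _).subschemeι ≫ PicF.XTproj f T') ≫ g.left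
    rw [← Category.assoc, hk, Category.assoc, Category.assoc]
    exact congrArg (_ ≫ ·) (HilbCurveLib.XTmap_snd f g)
  · show _ ≫ Z.1.subschemeι ≫ pullback.fst f T.hom = (Z.1.comap _).subschemeι ≫ pullback.fst f T'.hom
    rw [← Category.assoc, hk, Category.assoc, HilbCurveLib.XTmap_fst]

variable [IsFinite f]

/-- The quotient of a pulled back family. -/
theorem bc_hilbQ (h : Z'.1 = HilbD.pull f g Z.1) :
    (hilbQ Z).cls.bc g.left (Over.w g) = (hilbQ Z').cls := by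
  obtain ⟨k, hkp, hkm⟩ := exists_kMap g Z Z' h
  have hle : ∀ W : T.left.Opens, zProj Z' ⁻¹ᵁ (g.left ⁻¹ᵁ W) ≤ k ⁻¹ᵁ (zProj Z ⁻¹ᵁ W) := fun W => by
    rw [← Scheme.Hom.comp_preimage, ← Scheme.Hom.comp_preimage, hkp]
  obtain ⟨κ, hκ⟩ := ProjBundleLib.exists_hom_of_affine (E := ringP Z)
    (N := (Scheme.Modules.pushforward g.left).obj (ringP Z'))
    (fun W => (k.appLE (zProj Z ⁻¹ᵁ W.1) (zProj Z' ⁻¹ᵁ (g.left ⁻¹ᵁ W.1)) (hle W.1)).hom.toAddMonoidHom)
    (fun W hW r b => by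
      refine (congr($(k.appLE_map (hle W) (homOfLE ((zProj Z').preimage_mono
        (g.left.preimage_mono (T.left.basicOpen_le r)))).op) b)).trans ?_
      exact (congr($(k.map_appLE (hle (T.left.basicOpen r))
        (homOfLE ((zProj Z).preimage_mono (T.left.basicOpen_le r))).op) b)).symm)
    (fun W a b => by
      show k.appLE _ _ (hle W.1) ((zProj Z).app W.1 a * (show Γ(Z.1.subscheme, zProj Z ⁻¹ᵁ W.1) from b)) =
        (zProj Z').app (g.left ⁻¹ᵁ W.1) (g.left.app W.1 a) *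
          k.appLE _ _ (hle W.1) (show Γ(Z.1.subscheme, zProj Z ⁻¹ᵁ W.1) from b)
      rw [map_mul]
      congr 1
      have h1 : (zProj Z).app W.1 ≫ k.appLE _ _ (hle W.1) = g.left.app W.1 ≫ (zProj Z').app _ := by
        rw [Scheme.Hom.app_eq_appLE, Scheme.Hom.app_eq_appLE, Scheme.Hom.app_eq_appLE, Scheme.Hom.appLE_comp_appLE,
          Scheme.Hom.appLE_comp_appLE]
        simp only [hkp]
      exact congr($(h1) a))
  let w : ((hilbQ Z).bc g.left (Over.w g)).L ⟶ (hilbQ Z').L :=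
    ((Scheme.Modules.pullbackPushforwardAdjunction g.left).homEquiv _ _).symm κ
  haveI := isQCoh_ringE f
  have key : ((hilbQ Z).bc g.left (Over.w g)).s ≫ w = (hilbQ Z').s := by
    refine SpanAt.hom_ext fun x => ?_
    obtain ⟨_, ⟨U : S.Opens, hU : IsAffineOpen U, rfl⟩, hxU, -⟩ :=
      S.isBasis_affineOpens.exists_subset_of_mem_open (Set.mem_univ (T'.hom x)) isOpen_univ
    have hgx : T.hom (g.left x) ∈ U := by rw [← Scheme.Hom.comp_apply, Over.w g]; exact hxU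
    obtain ⟨_, ⟨W : T.left.Opens, hW : IsAffineOpen W, rfl⟩, hxW, hWU : W ≤ T.hom ⁻¹ᵁ U⟩ :=
      T.left.isBasis_affineOpens.exists_subset_of_mem_open (a := g.left x) (u := (T.hom ⁻¹ᵁ U : Set T.left)) hgx
        (T.hom ⁻¹ᵁ U).2
    haveI := QCohLib.finite_sections (ringE f) (isFT_ringE f) hU
    obtain ⟨n, σ, hσ⟩ := Module.Finite.exists_fin (R := Γ(S, U)) (M := Γ(ringE f, U))
    have e' : g.left ⁻¹ᵁ W ≤ T'.hom ⁻¹ᵁ U := fun y hy => by
      show T'.hom y ∈ U
      rw [← Over.w g]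
      exact hWU hy
    refine ⟨g.left ⁻¹ᵁ W, Fin n, fun j => pullMap T'.hom (ringE f) e' (σ j), hxW,
      spanAt_pullMap T'.hom e' hxW (spanAt_affine hU hσ (e' hxW)), fun j => ?_⟩
    show w.app _ (vecS ((hilbQ Z).bc g.left (Over.w g)) e' (σ j)) = vecS (hilbQ Z') e' (σ j)
    rw [vecS_bc (hilbQ Z) g.left (Over.w g) hWU e' le_rfl, vecS_hilbQ Z hU, vecS_hilbQ Z' hU]
    refine (GenBCLib.transpose_pullMap' g.left κ le_rfl _ _ (hκ W hW _)).trans ?_
    refine (Groth.Agent.CohBase.restr_self _ _ _).trans ?_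
    show ((zMap Z).appLE (f ⁻¹ᵁ U) _ _ ≫ k.appLE _ _ _) (σ j) = (zMap Z').appLE (f ⁻¹ᵁ U) _ _ (σ j)
    rw [Scheme.Hom.appLE_comp_appLE]
    simp only [hkm]
  haveI := ((hilbQ Z).bc g.left (Over.w g)).epi
  haveI : Epi w := by
    haveI : Epi (((hilbQ Z).bc g.left (Over.w g)).s ≫ w) := key ▸ (hilbQ Z').epi
    exact epi_of_epi ((hilbQ Z).bc g.left (Over.w g)).s w
  haveI : IsIso w := GrassRepLib.isIso_of_epi_rank w ((hilbQ Z).bc g.left (Over.w g)).rank (hilbQ Z').rank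
  rw [QData.bc_cls]
  exact cls_eq_of_iso (asIso w) key

end pull

section separated

variable [IsFinite f] {T : Over S}

/-- A family is determined by its quotient. -/
theorem obj_ext {Z Z' : HilbD.Obj f d T} (h : (hilbQ Z).cls = (hilbQ Z').cls) : Z = Z' := by
  haveI := (hilbQ Z).epi
  haveI := (hilbQ Z').epi
  obtain ⟨ε, hε⟩ := exists_iso_of_kerS_eq (hilbQ Z).s (hilbQ Z').s (congrArg Subtype.val h)
  have hmem : ∀ (Y : Scheme.{u}) (I : Y.IdealSheafData) (V : Y.affineOpens) (x : Γ(Y, V)),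
      x ∈ I.ideal V ↔ I.subschemeι.app V x = 0 := by
    intro Y I V x
    conv_lhs => rw [← I.ker_subschemeι]
    rw [Scheme.Hom.ker_apply, RingHom.mem_ker]
  have hcov : ∀ z : (PicF.XT f T : Scheme.{u}), ∃ p : S.affineOpens × T.left.affineOpens,
      p.2.1 ≤ T.hom ⁻¹ᵁ p.1.1 ∧ PicF.XTproj f T z ∈ p.2.1 := by
    intro z
    obtain ⟨_, ⟨U : S.Opens, hU : IsAffineOpen U, rfl⟩, hxU, -⟩ :=
      S.isBasis_affineOpens.exists_subset_of_mem_open (Set.mem_univ (T.hom (PicF.XTproj f T z))) isOpen_univ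
    obtain ⟨_, ⟨W : T.left.Opens, hW : IsAffineOpen W, rfl⟩, hxW, hWU⟩ :=
      T.left.isBasis_affineOpens.exists_subset_of_mem_open (a := PicF.XTproj f T z)
        (u := (T.hom ⁻¹ᵁ U : Set T.left)) hxU (T.hom ⁻¹ᵁ U).2
    exact ⟨(⟨U, hU⟩, ⟨W, hW⟩), hWU, hxW⟩
  refine Subtype.ext (Scheme.IdealSheafData.ext_of_iSup_eq_top
    (fun p : {p : S.affineOpens × T.left.affineOpens // p.2.1 ≤ T.hom ⁻¹ᵁ p.1.1} =>
      ⟨PicF.XTproj f T ⁻¹ᵁ p.1.2.1, p.1.2.2.preimage _⟩)
    (top_le_iff.1 fun z _ => by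
      obtain ⟨p, hp, hz⟩ := hcov z
      exact Opens.mem_iSup.2 ⟨⟨p, hp⟩, hz⟩) ?_)
  rintro ⟨⟨⟨U, hU⟩, ⟨W, hW⟩⟩, hWU : W ≤ T.hom ⁻¹ᵁ U⟩
  let η : ringP Z ⟶ ringP Z' := ε.hom
  have key : ∀ x, η.app W (zr Z W x) = zr Z' W x := by
    refine gen_induction hU hW hWU (motive := fun x => η.app W (zr Z W x) = zr Z' W x)
      (fun b => ?_) ?_ (fun x y hx hy => ?_) (fun c x hx => ?_)
    · show η.app W (zRes Z W _) = zRes Z' W _
      rw [zRes_fst Z hWU, zRes_fst Z' hWU, ← vecS_hilbQ Z hU hWU b, ← vecS_hilbQ Z' hU hWU b]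
      exact vecS_iso ε hε hWU b
    · rw [map_zero (zr Z W), map_zero (zr Z' W)]; exact map_zero _
    · rw [map_add (zr Z W), map_add (zr Z' W), map_add, hx, hy]
    · rw [zr_smul, zr_smul, Scheme.Modules.Hom.app_smul, hx]
  let η' : ringP Z' ⟶ ringP Z := ε.inv
  have hinv : ∀ y, η'.app W (η.app W y) = y := fun y => by
    show (η ≫ η').app W y = y
    rw [show η ≫ η' = 𝟙 _ from ε.hom_inv_id]
    rfl
  ext x
  rw [hmem, hmem]
  constructor
  · intro hx
    exact (key x).symm.trans ((congrArg (η.app W) hx).trans (map_zero _))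
  · intro hx
    exact (hinv _).symm.trans ((congrArg (η'.app W) ((key x).trans hx)).trans (map_zero _))

end separated

end Groth.Agent.HilbProjLib
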